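import Cfsg.Agent.HN133.CertA.Data

/-! Generated: checks of facts. -/

set_option autoImplicit false
set_option maxRecDepth 100000

namespace CfsgLib.HN133.CertA

open CfsgLib.CosetEnum

theorem facts0 : checkFacts epF (fun x => x ^^^ 1) words 12 0 [0x1, 0x0, 0x0, 0x20000500002000020000100005, 0x0, 0x900001000040000800004, 0x0, 0xd00001000060000a00004, 0x0, 0x1100001000080000a00004, 0xc000030001100003000080000b00006, 0x0, 0x17000010000b0000a00004, 0xc0000b0001700000000060000600006, 0xc0000900017000030000b0000c00006, 0x0, 0x1f000010000f0000a00004, 0xc000050001f00000000060000500006, 0x10000070001f000030000f0000b00006, 0x0, 0x2700001000130000800004, 0x0, 0x2b00001000150000800004, 0x26000110002b00003000150000600006, 0x26000130002b00000000130000c00006, 0x0, 0x3300001000190000800004, 0x0, 0x37000010001b0000800004, 0x320001f00037000030001b0000600006, 0x32000210003700000000190000c00006, 0x0, 0x0, 0x3e0004100002000200000100005, 0x0, 0x3e000170004500003000220000500006, 0x3e0001900045000000001f0000b00006, 0x0, 0x3e0000800005000350004b00005000250000300008, 0x4d00001000250000800004, 0x0, 0x440005100002000280000100005, 0x19000510004000001000040000500006,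 0x510004000017000020000b0000b00006, 0x0, 0x400000a00003000270005900000000200000900008, 0x5b000010002c0000200004, 0x0, 0x3d0005f0004a00001000190000500006, 0x5f0004a0003b000020001b0000b00006, 0x440001c00023000390005f000050002f0000300008, 0x65000010002f0000800004, 0x0, 0x4a0006900002000340000700005, 0x0, 0x580002f0006d00003000360000500006, 0x58000310006d000000002c0000b00006, 0x500001a000150002b0006d00000000280000900008, 0x7300001000360000200004, 0x0, 0x5800077000020003b0000100005, 0x6800032000060002900077000050003b0000300008, 0x7b000010003b0000800004, 0x0, 0x5e0007f000020003f0000700005, 0x680003b0007f000030003f0000500006, 0x680003d0007f00000000340000b00006, 0x0, 0x6c0008700002000430000100005, 0x31000870007600001000130000500006, 0x87000760002f00002000150000b00006, 0x7e00036000240002d0008700005000430000300008, 0x8f00001000430000800004] = true := by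
  decide +kernel

theorem factsUpTo73 (h : FactsChecked cert.ep cert.iv cert.words cert.nr 0) :
    FactsChecked cert.ep cert.iv cert.words cert.nr 73 :=
  (FactsChecked.app _ 73 h facts0 rfl)

end CfsgLib.HN133.CertA
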